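import Mathlib
import Cfsg.Prelude.Def_Transfer
import Cfsg.Agent.S0117
set_option linter.all false

/-!
Maximal subgroups that are `p`-groups: for `p` odd, or if the subgroup is abelian, the whole
finite group is solvable.
-/

set_option autoImplicit false
open Cfsg

universe u

namespace Cfsg.Agent.H475.MaxPGroup

open Subgroup
open scoped Pointwise

/-- A finite `p`-group is solvable. -/
theorem isSolvable_of_isPGroup {G : Type*} [Group G] [Finite G] {p : ℕ} [Fact p.Prime]
    (h : IsPGroup p G) : Group.IsSolvable G := by
  have := h.isNilpotent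
  infer_instance

/-- Solvability from a normal subgroup and the quotient. -/
theorem isSolvable_of_normal {G : Type*} [Group G] (K : Subgroup G) [K.Normal]
    (h1 : Group.IsSolvable K) (h2 : Group.IsSolvable (G ⧸ K)) : Group.IsSolvable G := by
  refine Group.isSolvable_of_ker_le_range K.subtype (QuotientGroup.mk' K) ?_
  rw [QuotientGroup.ker_mk', K.range_subtype]

/-- A normal solvable maximal subgroup forces solvability. -/
theorem isSolvable_of_normal_coatom {G : Type*} [Group G] (K : Subgroup G) [K.Normal]
    (hK : IsCoatom K) (h1 : Group.IsSolvable K) : Group.IsSolvable G := by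
  refine isSolvable_of_normal K h1 ?_
  obtain ⟨g, hg⟩ : ∃ g : G, g ∉ K := by
    by_contra hcon
    push Not at hcon
    exact hK.1 (eq_top_iff.2 fun x _ => hcon x)
  have htop : K ⊔ zpowers g = ⊤ := by
    refine hK.2 _ (lt_of_le_of_ne le_sup_left ?_)
    intro he
    exact hg (he ▸ (le_sup_right : zpowers g ≤ K ⊔ zpowers g) (mem_zpowers g))
  have hcyc : ∀ x : G ⧸ K, x ∈ zpowers (QuotientGroup.mk' K g) := by
    intro x
    obtain ⟨y, rfl⟩ := QuotientGroup.mk'_surjective K x
    have hy : y ∈ K ⊔ zpowers g := htop ▸ mem_top y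
    have : QuotientGroup.mk' K y ∈ (K ⊔ zpowers g).map (QuotientGroup.mk' K) :=
      mem_map_of_mem _ hy
    rw [Subgroup.map_sup, QuotientGroup.map_mk'_self, bot_sup_eq, MonoidHom.map_zpowers] at this
    exact this
  refine Group.isSolvable_of_comm ?_
  intro a b
  obtain ⟨m, hm⟩ := hcyc a
  obtain ⟨n, hn⟩ := hcyc b
  simp only at hm hn
  rw [← hm, ← hn, ← zpow_add, ← zpow_add, add_comm]

/-- If a `p`-group `M` is a maximal subgroup, and `G` has a normal `p`-complement, then `G` is solvable. -/
theorem isSolvable_of_complement {G : Type u} [Group G] [Finite G] {p : ℕ} [hp : Fact p.Prime]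
    (M : Subgroup G) (hM : IsCoatom M) (hMp : IsPGroup p M) (h : HasNormalPComplement p G) :
    Group.IsSolvable G := by
  classical
  by_cases hGp : IsPGroup p G
  · exact isSolvable_of_isPGroup hGp
  obtain ⟨P, hP⟩ := hMp.exists_le_sylow
  have hPM : (P : Subgroup G) = M := by
    by_contra hne
    have := hM.2 _ (lt_of_le_of_ne hP (Ne.symm hne))
    apply hGp
    have h1 := P.isPGroup'
    intro g
    obtain ⟨k, hk⟩ := h1 ⟨g, by rw [this]; exact mem_top g⟩
    exact ⟨k, by simpa [Subtype.ext_iff] using hk⟩
  obtain ⟨P', K, hKn, hKc⟩ := h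
  -- the order of `K` is prime to `p`
  have hKidx : K.index = Nat.card P' := by
    have := hKc.symm.index_eq_card
    simpa using this
  have hKcard : ¬ p ∣ Nat.card K := by
    have h1 : (P' : Subgroup G).index = Nat.card K := by
      have := hKc.index_eq_card
      simpa using this
    rw [← h1]
    exact P'.not_dvd_index
  have hKbot : K ≠ ⊥ := by
    rintro rfl
    apply hGp
    have h1 : (P' : Subgroup G) = ⊤ := by
      have := hKc.sup_eq_top
      simpa using this
    intro g
    obtain ⟨k, hk⟩ := P'.isPGroup' ⟨g, by rw [h1]; exact mem_top g⟩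
    exact ⟨k, by simpa [Subtype.ext_iff] using hk⟩
  -- a prime divisor of `|K|`
  have hK1 : Nat.card K ≠ 1 := by
    intro h1
    exact hKbot (Subgroup.card_eq_one.1 h1)
  obtain ⟨r, hr, hrK⟩ := Nat.exists_prime_and_dvd hK1
  have : Fact r.Prime := ⟨hr⟩
  obtain ⟨R⟩ : Nonempty (Sylow r K) := inferInstance
  set R0 : Subgroup G := (R : Subgroup K).map K.subtype with hR0
  have hfr : normalizer (R0 : Set G) ⊔ K = ⊤ := Sylow.normalizer_sup_eq_top R
  have hR0r : IsPGroup r R0 := by
    rw [hR0]; exact R.isPGroup'.map _
  have hR0bot : R0 ≠ ⊥ := by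
    intro hb
    have h1 : (R : Subgroup K) = ⊥ := by
      rw [hR0, Subgroup.map_eq_bot_iff] at hb
      rw [eq_bot_iff]
      refine hb.trans ?_
      rw [Subgroup.ker_subtype]
    exact (R.ne_bot_of_dvd_card hrK) h1
  -- the index of the normaliser of `R0` is prime to `p`
  have hidx : ¬ p ∣ (normalizer (R0 : Set G)).index := by
    have h1 : K.relIndex (normalizer (R0 : Set G)) = K.index := by
      rw [← Subgroup.relIndex_sup_right, hfr, Subgroup.relIndex_top_right]
    have h2 : K.index ∣ Nat.card (normalizer (R0 : Set G)) := by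
      rw [← h1]
      exact Subgroup.relIndex_dvd_card _ _
    obtain ⟨c, hc⟩ := h2
    have h3 : Nat.card G = Nat.card K * K.index := (Subgroup.card_mul_index _).symm
    have h4 : Nat.card G = Nat.card (normalizer (R0 : Set G)) * (normalizer (R0 : Set G)).index :=
      (Subgroup.card_mul_index _).symm
    have h5 : 0 < K.index := Nat.pos_of_ne_zero Subgroup.index_ne_zero_of_finite
    have h6 : Nat.card K = c * (normalizer (R0 : Set G)).index := by
      rw [h3, hc] at h4
      have : K.index * Nat.card K = K.index * (c * (normalizer (R0 : Set G)).index) := by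
        rw [mul_comm, h4]; ring
      exact Nat.eq_of_mul_eq_mul_left h5 this
    intro hd
    exact hKcard (h6 ▸ hd.mul_left c)
  -- a Sylow `p`-subgroup of `G` inside the normaliser
  obtain ⟨S⟩ : Nonempty (Sylow p (normalizer (R0 : Set G))) := inferInstance
  have hScard : Nat.card ((S : Subgroup (normalizer (R0 : Set G))).map
      (normalizer (R0 : Set G)).subtype) = p ^ (Nat.card G).factorization p := by
    rw [Subgroup.card_map_of_injective (Subgroup.subtype_injective _), S.card_eq_multiplicity]
    congr 1
    have h2 : Nat.card G = Nat.card (normalizer (R0 : Set G)) * (normalizer (R0 : Set G)).index :=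
      (Subgroup.card_mul_index _).symm
    rw [h2, Nat.factorization_mul Nat.card_pos.ne' Subgroup.index_ne_zero_of_finite]
    simp [Nat.factorization_eq_zero_of_not_dvd hidx]
  let S' : Sylow p G := Sylow.ofCard _ hScard
  obtain ⟨g, hg⟩ := MulAction.exists_smul_eq G S' P
  -- conjugate `R0` by `g`
  set R1 : Subgroup G := MulAut.conj g • R0 with hR1
  have hPN : (P : Subgroup G) ≤ normalizer (R1 : Set G) := by
    rw [← hg]
    rintro x hx
    have hx' : x ∈ MulAut.conj g • (S' : Subgroup G) := hx
    rw [Subgroup.mem_pointwise_smul_iff_inv_smul_mem] at hx'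
    have hy : (MulAut.conj g)⁻¹ • x ∈ normalizer (R0 : Set G) := by
      have : (S' : Subgroup G) ≤ normalizer (R0 : Set G) := by
        intro z hz
        obtain ⟨w, _, rfl⟩ := hz
        exact w.2
      exact this hx'
    rw [Subgroup.mem_normalizer_iff] at hy ⊢
    intro z
    have := hy ((MulAut.conj g)⁻¹ • z)
    rw [Subgroup.mem_pointwise_smul_iff_inv_smul_mem,
      Subgroup.mem_pointwise_smul_iff_inv_smul_mem, this]
    simp [mul_assoc]
  have hR1r : IsPGroup r R1 := by
    rw [hR1]
    exact hR0r.map _
  have hR1bot : R1 ≠ ⊥ := by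
    intro hb
    apply hR0bot
    rw [hR1] at hb
    rw [eq_bot_iff]
    intro x hx
    have : MulAut.conj g • x ∈ MulAut.conj g • R0 := Subgroup.smul_mem_pointwise_smul _ _ _ hx
    rw [hb, Subgroup.mem_bot] at this
    rw [Subgroup.mem_bot]
    simpa using this
  have hrp : r ≠ p := by
    rintro rfl
    exact hKcard hrK
  have hR1P : ¬ R1 ≤ P := by
    intro hle
    apply hR1bot
    have h1 : IsPGroup p R1 := P.isPGroup'.to_le hle
    obtain ⟨a, ha⟩ := IsPGroup.iff_card.1 h1
    obtain ⟨b, hb⟩ := IsPGroup.iff_card.1 hR1r
    have hcop : Nat.Coprime (Nat.card R1) (Nat.card R1) := by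
      conv_lhs => rw [ha]
      rw [hb]
      exact Nat.Coprime.pow _ _ ((Nat.coprime_primes hp.1 hr).2 (Ne.symm hrp))
    rw [Nat.coprime_self] at hcop
    exact Subgroup.card_eq_one.1 hcop
  have hPc : IsCoatom (P : Subgroup G) := hPM ▸ hM
  have hNtop : normalizer (R1 : Set G) = ⊤ := by
    refine hPc.2 _ (lt_of_le_of_ne hPN ?_)
    intro he
    exact hR1P (he ▸ Subgroup.le_normalizer)
  have : R1.Normal := Subgroup.normalizer_eq_top_iff.1 hNtop
  have hsup : R1 ⊔ (P : Subgroup G) = ⊤ := by
    refine hPc.2 _ (lt_of_le_of_ne le_sup_right ?_)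
    intro he
    exact hR1P (he ▸ le_sup_left)
  refine isSolvable_of_normal R1 (isSolvable_of_isPGroup hR1r) ?_
  have : Group.IsSolvable (P : Subgroup G) := isSolvable_of_isPGroup P.isPGroup'
  refine Group.isSolvable_of_surjective (f := (QuotientGroup.mk' R1).comp (P : Subgroup G).subtype) ?_
  intro x
  obtain ⟨y, rfl⟩ := QuotientGroup.mk'_surjective R1 x
  have hy : y ∈ R1 ⊔ (P : Subgroup G) := hsup ▸ mem_top y
  obtain ⟨a, ha, b, hb, rfl⟩ := Subgroup.mem_sup_of_normal_left.1 hy
  refine ⟨⟨b, hb⟩, ?_⟩
  simp only [MonoidHom.comp_apply, Subgroup.coe_subtype, map_mul]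
  have : QuotientGroup.mk' R1 a = 1 := by
    rwa [← MonoidHom.mem_ker, QuotientGroup.ker_mk']
  rw [this, one_mul]

/-- Transport of normal complements along an isomorphism: a `p`-group has one. -/
theorem hasNormalPComplement_of_isPGroup {G : Type*} [Group G] [Finite G] {p : ℕ} [Fact p.Prime]
    (h : IsPGroup p G) : HasNormalPComplement p G := by
  obtain ⟨P⟩ : Nonempty (Sylow p G) := inferInstance
  refine ⟨P, ⊥, inferInstance, ?_⟩
  have : (P : Subgroup G) = ⊤ := by
    have h1 : IsPGroup p (⊤ : Subgroup G) := fun x => by
      obtain ⟨k, hk⟩ := h x.1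
      exact ⟨k, Subtype.ext (by simpa using hk)⟩
    exact (P.is_maximal' h1 le_top).symm
  rw [this]
  exact Subgroup.isComplement'_bot_top

/-- A maximal subgroup that is a `p`-group is a Sylow subgroup, or `G` is solvable. -/
theorem exists_sylow_eq {G : Type*} [Group G] [Finite G] {p : ℕ} [Fact p.Prime]
    (M : Subgroup G) (hM : IsCoatom M) (hMp : IsPGroup p M) (hns : ¬ Group.IsSolvable G) :
    ∃ P : Sylow p G, (P : Subgroup G) = M := by
  obtain ⟨P, hP⟩ := hMp.exists_le_sylow
  refine ⟨P, ?_⟩
  by_contra hne
  have := hM.2 _ (lt_of_le_of_ne hP (Ne.symm hne))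
  apply hns
  apply isSolvable_of_isPGroup (p := p)
  intro g
  obtain ⟨k, hk⟩ := P.isPGroup' ⟨g, by rw [this]; exact mem_top g⟩
  exact ⟨k, by simpa [Subtype.ext_iff] using hk⟩

/-- For odd `p`, a finite group with a maximal subgroup that is a `p`-group is solvable. -/
theorem isSolvable_of_odd {p : ℕ} [hp : Fact p.Prime] (hp2 : p ≠ 2) : ∀ (n : ℕ) {G : Type u} [Group G]
    [Finite G], Nat.card G = n → ∀ (M : Subgroup G), IsCoatom M → IsPGroup p M → Group.IsSolvable G := by
  intro n
  induction n using Nat.strong_induction_on with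
  | _ n ih =>
    intro G _ _ hn M hM hMp
    by_contra hns
    obtain ⟨P, hP⟩ := exists_sylow_eq M hM hMp hns
    set J : Subgroup G := centerThompsonOf p (P : Subgroup G) with hJ
    have hPc : IsCoatom (P : Subgroup G) := hP ▸ hM
    have hPJ : (P : Subgroup G) ≤ normalizer (J : Set G) := by
      intro x hx
      have h1 : (centerThompsonOf p (P : Subgroup G)).map (MulAut.conj x).toMonoidHom =
          centerThompsonOf p ((P : Subgroup G).map (MulAut.conj x).toMonoidHom) :=
        S0117.map_centerThompsonOf p _ _ (MulAut.conj x).injective.injOn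
      have h2 : (P : Subgroup G).map (MulAut.conj x).toMonoidHom = P := by
        ext y
        constructor
        · rintro ⟨z, hz, rfl⟩
          exact P.mul_mem (P.mul_mem hx hz) (P.inv_mem hx)
        · intro hy
          refine ⟨x⁻¹ * y * x, P.mul_mem (P.mul_mem (P.inv_mem hx) hy) hx, ?_⟩
          simp [mul_assoc]
      rw [h2] at h1
      rw [mem_normalizer_iff]
      intro z
      constructor
      · intro hz
        rw [hJ, ← h1]
        exact ⟨z, hz, by simp⟩
      · intro hz
        rw [hJ, ← h1] at hz
        obtain ⟨w, hw, hwz⟩ := hz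
        have : w = z := by
          simpa using hwz
        rw [← this]
        exact hw
    rcases eq_or_ne (normalizer (J : Set G)) (P : Subgroup G) with he | hne
    · -- the normaliser is a `p`-group
      have hc : HasNormalPComplement p G := by
        rw [S0117.result hp2 P]
        apply hasNormalPComplement_of_isPGroup
        rw [← hJ, he]
        exact P.isPGroup'
      exact hns (isSolvable_of_complement M hM hMp hc)
    · have htop : normalizer (J : Set G) = ⊤ := hPc.2 _ (lt_of_le_of_ne hPJ (Ne.symm hne))
      have hJn : J.Normal := Subgroup.normalizer_eq_top_iff.1 htop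
      have hJP : J ≤ P := S0117.centerThompsonOf_le p _
      by_cases hJb : J = ⊥
      · have hPb : (P : Subgroup G) = ⊥ := by
          by_contra hPb
          exact S0117.centerThompsonOf_ne_bot P.isPGroup' hPb hJb
        have hbc : IsCoatom (⊥ : Subgroup G) := hPb ▸ hPc
        exact hns (isSolvable_of_normal_coatom ⊥ hbc inferInstance)
      · -- pass to the quotient
        have hlt : Nat.card (G ⧸ J) < n := by
          rw [← hn, Subgroup.card_eq_card_quotient_mul_card_subgroup J]
          have h1 : 1 < Nat.card J := by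
            rw [Subgroup.one_lt_card_iff_ne_bot]
            exact hJb
          have h2 : 0 < Nat.card (G ⧸ J) := Nat.card_pos
          nlinarith
        have hq := ih _ hlt (G := G ⧸ J) rfl ((P : Subgroup G).map (QuotientGroup.mk' J)) ?_
          (P.isPGroup'.map _)
        · exact hns (isSolvable_of_normal J (isSolvable_of_isPGroup (P.isPGroup'.to_le hJP)) hq)
        · constructor
          · intro htop'
            apply hPc.1
            rw [eq_top_iff]
            intro x _
            have hx : QuotientGroup.mk' J x ∈ (P : Subgroup G).map (QuotientGroup.mk' J) :=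
              htop' ▸ mem_top _
            obtain ⟨y, hy, hyx⟩ := hx
            have : y⁻¹ * x ∈ J := by
              rw [← QuotientGroup.eq]
              exact hyx
            have := P.mul_mem hy (hJP this)
            simpa using this
          · intro L hL
            have h1 : (P : Subgroup G) < L.comap (QuotientGroup.mk' J) := by
              refine lt_of_le_of_ne (Subgroup.map_le_iff_le_comap.1 hL.le) ?_
              intro he
              apply hL.ne
              rw [he, Subgroup.map_comap_eq_self_of_surjective (QuotientGroup.mk'_surjective J)]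
            have h2 := hPc.2 _ h1
            rw [← Subgroup.map_comap_eq_self_of_surjective (QuotientGroup.mk'_surjective J) L, h2]
            exact Subgroup.map_top_of_surjective _ (QuotientGroup.mk'_surjective J)

/-- A finite group with a maximal subgroup that is an abelian `p`-group is solvable. -/
theorem isSolvable_of_comm {G : Type u} [Group G] [Finite G] {p : ℕ} [hp : Fact p.Prime]
    (M : Subgroup G) (hM : IsCoatom M) (hMp : IsPGroup p M)
    (hab : ∀ x ∈ M, ∀ y ∈ M, x * y = y * x) : Group.IsSolvable G := by
  by_contra hns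
  obtain ⟨P, hP⟩ := exists_sylow_eq M hM hMp hns
  have hPc : IsCoatom (P : Subgroup G) := hP ▸ hM
  rcases eq_or_ne (normalizer ((P : Subgroup G) : Set G)) (P : Subgroup G) with he | hne
  · have hcen : normalizer ((P : Subgroup G) : Set G) ≤ centralizer ((P : Subgroup G) : Set G) := by
      rw [he]
      intro x hx
      rw [mem_centralizer_iff]
      intro y hy
      rw [hP] at hx
      have hy' : y ∈ M := hP ▸ hy
      exact hab y hy' x hx
    have hc : HasNormalPComplement p G :=
      ⟨P, _, inferInstance, MonoidHom.ker_transferSylow_isComplement' P hcen⟩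
    exact hns (isSolvable_of_complement M hM hMp hc)
  · have htop : normalizer ((P : Subgroup G) : Set G) = ⊤ :=
      hPc.2 _ (lt_of_le_of_ne Subgroup.le_normalizer (Ne.symm hne))
    have hn : (P : Subgroup G).Normal := Subgroup.normalizer_eq_top_iff.1 htop
    exact hns (isSolvable_of_normal_coatom _ hPc (isSolvable_of_isPGroup P.isPGroup'))

end Cfsg.Agent.H475.MaxPGroup
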